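import Cfsg.Agent.H205.RC.Uni

/-!
# S3510, row F, box E6 (helper406): an element of order `p` odd and an orthogonal decomposition

From helper205's `case_b`, `piece`.
-/

set_option autoImplicit false
set_option linter.unusedSectionVars false

namespace Cfsg.Agent.H406.RC

open Cfsg QuadraticMap Module
open Cfsg.Agent.LieClassical.OrthCore Cfsg.Agent.LieClassical.OrthTrans Cfsg.Agent.H205.RC

variable {F V : Type*} [Field F] [AddCommGroup V] [Module F V] [FiniteDimensional F V] {Q : QuadraticForm F V}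

/-- a nilpotent map `N = u - 1` of square zero and rank 2 -/
theorem skew_form (hQ : Nondeg Q) (h2 : (2 : F) ≠ 0) {N : V →ₗ[F] V}
    (iso : ∀ x y, polar Q (N x) y + polar Q x (N y) + polar Q (N x) (N y) = 0) (hN0 : ∃ v, N v ≠ 0)
    (hN2 : ∀ v, N (N v) = 0) (hrk : finrank F (LinearMap.range N) ≤ 2) :
    ∃ e w : V, Q e = 0 ∧ Q w = 0 ∧ polar Q e w = 0 ∧ e ≠ 0 ∧ (∀ a : F, w ≠ a • e) ∧
      Submodule.span F {e, w} = LinearMap.range N ∧ ∀ v, N v = polar Q e v • w - polar Q w v • e := by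
  have b11 : ∀ x y, polar Q (N x) (N y) = 0 := by
    intro x y
    have h := iso x (N y)
    rw [hN2, polar_zero_right, polar_zero_right, add_zero, add_zero] at h
    exact h
  have hsk : ∀ x y, polar Q (N x) y = -polar Q (N y) x := by
    intro x y
    have h := iso x y
    rw [b11, polar_comm Q x (N y)] at h
    linear_combination h
  have halt : ∀ x, polar Q (N x) x = 0 := by
    intro x
    have h := hsk x x
    have h5 : 2 * polar Q (N x) x = 0 := by linear_combination h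
    exact (mul_eq_zero.1 h5).resolve_left h2
  have hQN : ∀ x, Q (N x) = 0 := by
    intro x
    have h := two_mul_Q (Q := Q) (N x)
    rw [b11] at h
    exact (mul_eq_zero.1 h.symm).resolve_left h2
  obtain ⟨a, ha⟩ := hN0
  obtain ⟨b0, hb0⟩ := hQ.exists_polar_ne ha
  set b := (polar Q (N a) b0)⁻¹ • b0 with hb
  have hab : polar Q (N a) b = 1 := by
    rw [hb, polar_smul_right, smul_eq_mul, inv_mul_cancel₀ hb0]
  have hba : polar Q (N b) a = -1 := by rw [hsk, hab]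
  have hli : LinearIndependent F ![N a, N b] := by
    rw [LinearIndependent.pair_iff]
    intro c d hcd
    have h5 : polar Q (c • N a + d • N b) b = 0 := by rw [hcd, polar_zero_left]
    rw [polar_add_left, polar_smul_left, polar_smul_left, hab, halt, smul_zero, add_zero, smul_eq_mul, mul_one] at h5
    have h6 : polar Q (c • N a + d • N b) a = 0 := by rw [hcd, polar_zero_left]
    rw [polar_add_left, polar_smul_left, polar_smul_left, hba, halt, smul_zero, zero_add, smul_eq_mul] at h6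
    exact ⟨h5, by linear_combination -h6⟩
  have hle : Submodule.span F {N a, N b} ≤ LinearMap.range N := by
    rw [Submodule.span_le]
    rintro _ (rfl | rfl)
    · exact ⟨a, rfl⟩
    · exact ⟨b, rfl⟩
  have hrange : Submodule.span F {N a, N b} = LinearMap.range N := by
    apply Submodule.eq_of_le_of_finrank_le hle
    have h5 := finrank_span_eq_card hli
    rw [Matrix.range_cons_cons_empty] at h5
    rw [h5]
    exact hrk
  have hform : ∀ v, N v = polar Q (N a) v • N b - polar Q (N b) v • N a := by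
    intro v
    have h5 : N v ∈ Submodule.span F {N a, N b} := by
      rw [hrange]
      exact ⟨v, rfl⟩
    obtain ⟨c, d, hcd⟩ := Submodule.mem_span_pair.1 h5
    have h6 := hsk v b
    rw [← hcd, polar_add_left, polar_smul_left, polar_smul_left, hab, halt, smul_zero, add_zero, smul_eq_mul,
      mul_one] at h6
    have h7 := hsk v a
    rw [← hcd, polar_add_left, polar_smul_left, polar_smul_left, hba, halt, smul_zero, zero_add, smul_eq_mul] at h7
    have h8 : d = polar Q (N a) v := by linear_combination -h7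
    rw [← hcd, h6, ← h8]
    module
  refine ⟨N a, N b, hQN a, hQN b, b11 a b, ha, ?_, hrange, hform⟩
  intro c hc
  have h5 := halt b
  rw [hc, polar_smul_left, hab, smul_eq_mul, mul_one] at h5
  rw [h5, zero_smul] at hc
  rw [hc, polar_zero_left] at hba
  exact neg_ne_zero.2 one_ne_zero hba.symm

/-- the part of `u - 1` on a summand -/
theorem piece_form (hQ : Nondeg Q) (h2 : (2 : F) ≠ 0) {u : V ≃ₗ[F] V} (hu : ∀ v, Q (u v) = Q v)
    {W W' : Submodule F V} (hcW : IsCompl W W') (ho : ∀ x ∈ W, ∀ y ∈ W', polar Q x y = 0)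
    (hWu : ∀ v ∈ W, u v ∈ W) (hN2 : ∀ v ∈ W, nn u (nn u v) = 0) (hne : ∃ v ∈ W, nn u v ≠ 0)
    (hrk : finrank F (W.map (nn u)) ≤ 2) {ι : Type*} {X : ι → V ≃ₗ[F] V} (hcu : ∀ i v, X i (u v) = u (X i v))
    (hX : ∀ i, ∀ v ∈ W, X i v ∈ W) :
    ∃ e w : V, e ∈ W ∧ w ∈ W ∧ Q e = 0 ∧ Q w = 0 ∧ polar Q e w = 0 ∧ e ≠ 0 ∧ (∀ a : F, w ≠ a • e) ∧
      (∀ v ∈ W, nn u v = polar Q e v • w - polar Q w v • e) ∧
      ∀ i, ∀ v ∈ Submodule.span F {e, w}, X i v ∈ Submodule.span F {e, w} := by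
  have hdec : ∀ v : V, ∃ a ∈ W, ∃ b ∈ W', a + b = v := fun v => by
    have hv : v ∈ W ⊔ W' := by rw [hcW.sup_eq_top]; trivial
    exact Submodule.mem_sup.1 hv
  set π : V →ₗ[F] V := W.subtype ∘ₗ W.projectionOnto W' hcW with hπ
  have π1 : ∀ v ∈ W, π v = v := fun v hv => by
    have h := Submodule.projectionOnto_apply_left hcW ⟨v, hv⟩
    exact congrArg Subtype.val h
  have π2 : ∀ v ∈ W', π v = 0 := fun v hv => by
    have h := Submodule.projectionOnto_apply_right hcW ⟨v, hv⟩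
    exact congrArg Subtype.val h
  have πW : ∀ v, π v ∈ W := fun v => (W.projectionOnto W' hcW v).2
  have hNW : ∀ v ∈ W, nn u v ∈ W := fun v hv => W.sub_mem (hWu v hv) hv
  have hpol : ∀ x ∈ W, ∀ y, polar Q x y = polar Q x (π y) := by
    intro x hx y
    obtain ⟨a, ha, b, hb, rfl⟩ := hdec y
    rw [map_add, π1 a ha, π2 b hb, add_zero, polar_add_right, ho x hx b hb, add_zero]
  obtain ⟨e, w, e1, w1, e2, e3, e4, e5, e6⟩ := skew_form hQ h2 (N := nn u ∘ₗ π) (fun x y => by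
      have h := nn_iso (u := u) hu (π x) (π y)
      show polar Q (nn u (π x)) y + polar Q x (nn u (π y)) + polar Q (nn u (π x)) (nn u (π y)) = 0
      rw [hpol _ (hNW _ (πW x)) y, polar_comm Q x, hpol _ (hNW _ (πW y)) x, polar_comm Q _ (π x)]
      exact h) (by
      obtain ⟨v, hv, hv0⟩ := hne
      refine ⟨v, ?_⟩
      show nn u (π v) ≠ 0
      rwa [π1 v hv]) (fun v => by
      show nn u (π (nn u (π v))) = 0
      rw [π1 _ (hNW _ (πW v)), hN2 _ (πW v)]) (by
      rw [LinearMap.range_comp]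
      have h : LinearMap.range π = W := by
        ext v
        exact ⟨fun ⟨x, hx⟩ => hx ▸ πW x, fun hv => ⟨v, π1 v hv⟩⟩
      rw [h]
      exact hrk)
  have hle : ∀ v ∈ Submodule.span F {e, w}, v ∈ W := by
    rw [e5]
    rintro _ ⟨x, rfl⟩
    exact hNW _ (πW x)
  refine ⟨e, w, hle e (Submodule.subset_span (by simp)), hle w (Submodule.subset_span (by simp)), e1, w1, e2, e3, e4,
    fun v hv => ?_, fun i v hv => ?_⟩
  · rw [← e6]
    show nn u v = nn u (π v)
    rw [π1 v hv]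
  · rw [e5] at hv ⊢
    obtain ⟨x, rfl⟩ := hv
    refine ⟨X i (π x), ?_⟩
    show nn u (π (X i (π x))) = X i (nn u (π x))
    rw [π1 _ (hX i _ (πW x)), nn_apply, nn_apply, map_sub, hcu]

/-- **BOX E6** -/
theorem box_uni_even [Finite F] (hQ : Nondeg Q) {p : ℕ} [CharP F p] (hp2 : p ≠ 2)
    (u : V ≃ₗ[F] V) (hu : u ∈ O Q) (hup : u ^ p = 1) (hu1 : u ≠ 1)
    {ι : Type*} [Finite ι] (X : ι → V ≃ₗ[F] V) (r : ι → ℕ)
    (hO : ∀ i, X i ∈ O Q) (hr : ∀ i, (r i).Prime) (hrp : ∀ i, r i ≠ p) (hpow : ∀ i, X i ^ r i = 1)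
    (hc : ∀ i j, X i * X j = X j * X i) (hcu : ∀ i, X i * u = u * X i)
    {W W' : Submodule F V} (hcW : IsCompl W W') (ho : ∀ x ∈ W, ∀ y ∈ W', polar Q x y = 0) (hb : W ≠ ⊥) (hb' : W' ≠ ⊥)
    (hWX : ∀ i, ∀ v ∈ W, X i v ∈ W) (hWX' : ∀ i, ∀ v ∈ W', X i v ∈ W') (hWu : ∀ v ∈ W, u v ∈ W)
    (hWu' : ∀ v ∈ W', u v ∈ W') :
    (∃ W : Submodule F V, Good (Q.comp W.subtype) ∧ W ≠ ⊤ ∧ (∀ i, ∀ v ∈ W, X i v ∈ W) ∧
      (∀ v ∈ W, u v ∈ W) ∧ ∃ v ∈ W, u v ≠ v) ∨
    (∃ (e f b : V) (h : Hyp Q e f) (heb : polar Q e b = 0), polar Q f b = 0 ∧ Q b ≠ 0 ∧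
      (∀ i, (∀ v ∈ Submodule.span F {e, f, b}, X i v = v) ∨
        ∀ v ∈ Submodule.span F {e, f, b}, X i v = -v) ∧
      ∀ v ∈ Submodule.span F {e, f, b}, u v = siegel Q e b h.left heb v) ∨
    (∃ (e w : V) (he : Q e = 0) (_hw : Q w = 0) (hew : polar Q e w = 0), e ≠ 0 ∧ (∀ a : F, w ≠ a • e) ∧
      u = siegel Q e w he hew ∧ ∀ i, ∀ v ∈ Submodule.span F {e, w}, X i v ∈ Submodule.span F {e, w}) ∨
    (∃ (e w e' w' : V) (he : Q e = 0) (_hw : Q w = 0) (hew : polar Q e w = 0) (he' : Q e' = 0) (_hw' : Q w' = 0)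
      (hew' : polar Q e' w' = 0), e ≠ 0 ∧ (∀ a : F, w ≠ a • e) ∧ e' ≠ 0 ∧ (∀ a : F, w' ≠ a • e') ∧
      e ∈ W ∧ w ∈ W ∧ e' ∈ W' ∧ w' ∈ W' ∧ finrank F W = 4 ∧ finrank F W' = 4 ∧
      u = siegel Q e w he hew * siegel Q e' w' he' hew' ∧
      (∀ i, ∀ v ∈ Submodule.span F {e, w}, X i v ∈ Submodule.span F {e, w}) ∧
      ∀ i, ∀ v ∈ Submodule.span F {e', w'}, X i v ∈ Submodule.span F {e', w'}) := by
  have hpp : p.Prime := CharP.char_is_prime F p
  have : Fact p.Prime := ⟨hpp⟩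
  have h2 : (2 : F) ≠ 0 := by
    intro h0
    have h1 : ((2 : ℕ) : F) = 0 := by exact_mod_cast h0
    rw [CharP.cast_eq_zero_iff F p] at h1
    exact hp2 ((Nat.prime_dvd_prime_iff_eq hpp Nat.prime_two).1 h1)
  have hrF : ∀ i, ((r i : ℕ) : F) ≠ 0 := by
    intro i h0
    rw [CharP.cast_eq_zero_iff F p] at h0
    exact hrp i ((Nat.prime_dvd_prime_iff_eq hpp (hr i)).1 h0).symm
  have hcv : ∀ i j v, X i (X j v) = X j (X i v) := fun i j v => LinearEquiv.congr_fun (hc i j) v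
  have hcuv : ∀ i v, X i (u v) = u (X i v) := fun i v => LinearEquiv.congr_fun (hcu i) v
  have hou : ∀ v, Q (u v) = Q v := hu
  have uN : ∀ v, u v = v + nn u v := fun v => by rw [nn_apply]; abel
  -- a summand
  have main : ∀ W W' : Submodule F V, IsCompl W W' → (∀ x ∈ W, ∀ y ∈ W', polar Q x y = 0) → W' ≠ ⊥ →
      (∀ i, ∀ v ∈ W, X i v ∈ W) → (∀ v ∈ W, u v ∈ W) → (∃ v ∈ W, nn u v ≠ 0) →
      (∃ W : Submodule F V, Good (Q.comp W.subtype) ∧ W ≠ ⊤ ∧ (∀ i, ∀ v ∈ W, X i v ∈ W) ∧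
        (∀ v ∈ W, u v ∈ W) ∧ ∃ v ∈ W, u v ≠ v) ∨
      (∃ (e f b : V) (h : Hyp Q e f) (heb : polar Q e b = 0), polar Q f b = 0 ∧ Q b ≠ 0 ∧
        (∀ i, (∀ v ∈ Submodule.span F {e, f, b}, X i v = v) ∨
          ∀ v ∈ Submodule.span F {e, f, b}, X i v = -v) ∧
        ∀ v ∈ Submodule.span F {e, f, b}, u v = siegel Q e b h.left heb v) ∨
      (finrank F W = 4 ∧ ∃ e w : V, e ∈ W ∧ w ∈ W ∧ Q e = 0 ∧ Q w = 0 ∧ polar Q e w = 0 ∧ e ≠ 0 ∧
        (∀ a : F, w ≠ a • e) ∧ (∀ v ∈ W, nn u v = polar Q e v • w - polar Q w v • e) ∧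
        ∀ i, ∀ v ∈ Submodule.span F {e, w}, X i v ∈ Submodule.span F {e, w}) := by
    intro W W' hcW ho hb' hWX hWu hne
    have hnd : NdOn Q W := NdOn.of_compl hQ hcW.codisjoint ho
    by_cases h5 : 5 ≤ finrank F W
    · left
      refine ⟨W, Cfsg.Agent.LieClassical.OrthFinite.good_of_finite hnd.nondeg h5, ?_, hWX, hWu, ?_⟩
      · rintro rfl
        apply hb'
        have := hcW.disjoint
        rwa [top_disjoint] at this
      · obtain ⟨v, hv, hv0⟩ := hne
        refine ⟨v, hv, fun h => hv0 ?_⟩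
        rw [nn_apply, h, sub_self]
    · right
      have h4 : finrank F W ≤ 4 := by omega
      by_cases hN2 : ∀ v ∈ W, nn u (nn u v) = 0
      · right
        obtain ⟨e1, e2⟩ := piece (p := p) hQ h2 hou hcW ho h4 hWu hN2 hne
        refine ⟨e1, piece_form hQ h2 hou hcW ho hWu hN2 hne ?_ hcuv hWX⟩
        have h6 : W.map (nn u) = (LinearMap.range (rs u hWu)).map W.subtype := by
          ext v
          constructor
          · rintro ⟨w, hw, rfl⟩
            exact ⟨rs u hWu ⟨w, hw⟩, ⟨⟨w, hw⟩, rfl⟩, rfl⟩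
          · rintro ⟨_, ⟨w, rfl⟩, rfl⟩
            exact ⟨w, w.2, rfl⟩
        rw [h6]
        exact ((Submodule.finrank_map_subtype_eq W _).trans e2).le
      · left
        push Not at hN2
        obtain ⟨w, hw, hw2⟩ := hN2
        exact case_b h2 hou hup hO hrF hpow hcv hcuv hnd h4 hWu hWX hw hw2
  have ho' : ∀ x ∈ W', ∀ y ∈ W, polar Q x y = 0 := fun x hx y hy => by
    rw [polar_comm]
    exact ho y hy x hx
  have hsum : ∀ v : V, ∃ a ∈ W, ∃ b ∈ W', a + b = v := fun v => by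
    have hv : v ∈ W ⊔ W' := by rw [hcW.sup_eq_top]; trivial
    exact Submodule.mem_sup.1 hv
  -- only one summand
  have fin : ∀ W W' : Submodule F V, (∀ v : V, ∃ a ∈ W, ∃ b ∈ W', a + b = v) →
      (∀ x ∈ W, ∀ y ∈ W', polar Q x y = 0) → (∀ v ∈ W', nn u v = 0) → ∀ e w : V, e ∈ W → w ∈ W →
      (∀ v ∈ W, nn u v = polar Q e v • w - polar Q w v • e) → ∀ (he : Q e = 0) (hw : Q w = 0) (hew : polar Q e w = 0),
      u = siegel Q e w he hew := by
    intro W W' hs ho h0 e w heW hwW hf he hw hew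
    ext v
    obtain ⟨a, ha, b, hb, rfl⟩ := hs v
    rw [siegel_apply, hw, zero_mul, zero_smul, sub_zero, uN, map_add, h0 b hb, add_zero, hf a ha, polar_add_right,
      polar_add_right, ho e heW b hb, ho w hwW b hb, add_zero, add_zero, add_sub_assoc]
  by_cases c1 : ∃ v ∈ W, nn u v ≠ 0
  · rcases main W W' hcW ho hb' hWX hWu c1 with h | h | ⟨h4, e, w, heW, hwW, he, hw, hew, he0, hind, hf, hX⟩
    · exact Or.inl h
    · exact Or.inr (Or.inl h)
    · by_cases c2 : ∃ v ∈ W', nn u v ≠ 0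
      · rcases main W' W hcW.symm ho' hb hWX' hWu' c2 with
          h | h | ⟨h4', e', w', heW', hwW', he', hw', hew', he0', hind', hf', hX'⟩
        · exact Or.inl h
        · exact Or.inr (Or.inl h)
        · refine Or.inr (Or.inr (Or.inr ⟨e, w, e', w', he, hw, hew, he', hw', hew', he0, hind, he0', hind', heW, hwW,
            heW', hwW', h4, h4', ?_, hX, hX'⟩))
          ext v
          obtain ⟨a, ha, b, hb, rfl⟩ := hsum v
          rw [LinearEquiv.mul_apply, siegel_apply, siegel_apply, hw, hw', zero_mul, zero_mul, zero_smul, zero_smul,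
            sub_zero, sub_zero, uN, map_add, hf a ha, hf' b hb]
          simp only [polar_add_right, polar_sub_right, polar_smul_right, ho e heW b hb, ho w hwW b hb,
            ho' e' heW' a ha, ho' w' hwW' a ha, ho e heW w' hwW', ho e heW e' heW', ho w hwW w' hwW',
            ho w hwW e' heW', smul_zero, add_zero, zero_add, sub_zero]
          abel
      · push Not at c2
        exact Or.inr (Or.inr (Or.inl ⟨e, w, he, hw, hew, he0, hind, fin W W' hsum ho c2 e w heW hwW hf he hw hew, hX⟩))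
  · push Not at c1
    have c2 : ∃ v ∈ W', nn u v ≠ 0 := by
      by_contra hcon
      push Not at hcon
      apply hu1
      ext v
      obtain ⟨a, ha, b, hb, rfl⟩ := hsum v
      have h1 : nn u (a + b) = 0 := by rw [map_add, c1 a ha, hcon b hb, add_zero]
      rw [nn_apply] at h1
      exact sub_eq_zero.1 h1
    rcases main W' W hcW.symm ho' hb hWX' hWu' c2 with
      h | h | ⟨h4', e', w', heW', hwW', he', hw', hew', he0', hind', hf', hX'⟩
    · exact Or.inl h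
    · exact Or.inr (Or.inl h)
    · exact Or.inr (Or.inr (Or.inl ⟨e', w', he', hw', hew', he0', hind',
        fin W' W (fun v => by
          obtain ⟨a, ha, b, hb, h⟩ := hsum v
          exact ⟨b, hb, a, ha, by rw [← h, add_comm]⟩) ho' c1 e' w' heW' hwW' hf' he' hw' hew', hX'⟩))

/-- **BOX E6**, the form announced by helper205 -/
theorem box_uni_split [Finite F] (hG : Good Q) {p : ℕ} [CharP F p] (hp2 : p ≠ 2) (_h7 : 7 ≤ Module.finrank F V)
    (u : V ≃ₗ[F] V) (hu : u ∈ O Q) (hup : u ^ p = 1) (hu1 : u ≠ 1)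
    {ι : Type*} [Finite ι] (X : ι → V ≃ₗ[F] V) (r : ι → ℕ)
    (hO : ∀ i, X i ∈ O Q) (hr : ∀ i, (r i).Prime) (hrp : ∀ i, r i ≠ p) (hpow : ∀ i, X i ^ r i = 1)
    (hc : ∀ i j, X i * X j = X j * X i) (hcu : ∀ i, X i * u = u * X i)
    (D D' : Submodule F V) (hD : IsCompl D D') (ho : ∀ x ∈ D, ∀ y ∈ D', polar Q x y = 0) (hb : D ≠ ⊥) (hb' : D' ≠ ⊥)
    (hXD : ∀ i, ∀ v ∈ D, X i v ∈ D) (hXD' : ∀ i, ∀ v ∈ D', X i v ∈ D') (huD : ∀ v ∈ D, u v ∈ D)
    (huD' : ∀ v ∈ D', u v ∈ D') :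
    (∃ W : Submodule F V, Good (Q.comp W.subtype) ∧ W ≠ ⊤ ∧ (∀ i, ∀ v ∈ W, X i v ∈ W) ∧
      (∀ v ∈ W, u v ∈ W) ∧ ∃ v ∈ W, u v ≠ v) ∨
    (∃ (e f b : V) (h : Hyp Q e f) (heb : polar Q e b = 0), polar Q f b = 0 ∧ Q b ≠ 0 ∧
      (∀ i, (∀ v ∈ Submodule.span F {e, f, b}, X i v = v) ∨
        ∀ v ∈ Submodule.span F {e, f, b}, X i v = -v) ∧
      ∀ v ∈ Submodule.span F {e, f, b}, u v = siegel Q e b h.left heb v) ∨
    (∃ (e w : V) (he : Q e = 0) (_hw : Q w = 0) (hew : polar Q e w = 0), e ≠ 0 ∧ (∀ a : F, w ≠ a • e) ∧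
      u = siegel Q e w he hew ∧ ∀ i, ∀ v ∈ Submodule.span F {e, w}, X i v ∈ Submodule.span F {e, w}) ∨
    (finrank F D = 4 ∧ finrank F D' = 4 ∧
      ∃ (e w : V) (he : Q e = 0) (_hw : Q w = 0) (hew : polar Q e w = 0) (e' w' : V) (he' : Q e' = 0)
        (_hw' : Q w' = 0) (hew' : polar Q e' w' = 0), e ∈ D ∧ w ∈ D ∧ e' ∈ D' ∧ w' ∈ D' ∧
        LinearIndependent F ![e, w] ∧ LinearIndependent F ![e', w'] ∧
        u = siegel Q e w he hew * siegel Q e' w' he' hew' ∧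
        (∀ i, ∀ v ∈ Submodule.span F {e, w}, X i v ∈ Submodule.span F {e, w}) ∧
        ∀ i, ∀ v ∈ Submodule.span F {e', w'}, X i v ∈ Submodule.span F {e', w'}) := by
  rcases box_uni_even hG.nondeg hp2 u hu hup hu1 X r hO hr hrp hpow hc hcu hD ho hb hb' hXD hXD' huD huD' with
    h | h | h | ⟨e, w, e', w', he, hw, hew, he', hw', hew', he0, hind, he0', hind', heD, hwD, heD', hwD', h4, h4', hu', hX,
      hX'⟩
  · exact Or.inl h
  · exact Or.inr (Or.inl h)
  · exact Or.inr (Or.inr (Or.inl h))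
  · exact Or.inr (Or.inr (Or.inr ⟨h4, h4', e, w, he, hw, hew, e', w', he', hw', hew', heD, hwD, heD', hwD',
      (LinearIndependent.pair_iff' he0).2 fun a h => hind a h.symm,
      (LinearIndependent.pair_iff' he0').2 fun a h => hind' a h.symm, hu', hX, hX'⟩))

end Cfsg.Agent.H406.RC
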