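import Cfsg.Agent.H93.RC.BoxB3
import Cfsg.Agent.H297.RC.LR
import Cfsg.Agent.H393.RC.UU
import Cfsg.Agent.H406.RC.UniEven

/-!
# S3510, row F, box E6 (helper406): `p` odd, a member of order `p`, an orthogonal decomposition
-/

set_option autoImplicit false
open Cfsg

namespace Cfsg.Agent.H406.RC

open QuadraticMap MulAction Module
open Cfsg.Agent.LieClassical.OrthCore Cfsg.Agent.LieClassical.OrthTrans
open Cfsg.Agent.LieClassical.OrthSimple Cfsg.Agent.ClassicalGeometry.OrthSemi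
open Cfsg.Agent.ClassicalGeometry.OrthAut1 Cfsg.Agent.H106.RC Cfsg.Agent.H93.RC Cfsg.Agent.H138.RC

variable {F V : Type} [Field F] [Finite F] [AddCommGroup V] [Module F V] [FiniteDimensional F V]
  {Q : QuadraticForm F V}

/-- the orthogonal complement -/
def orth (Q : QuadraticForm F V) (D : Submodule F V) : Submodule F V where
  carrier := {v | ∀ d ∈ D, polar Q d v = 0}
  add_mem' := by
    intro v w hv hw d hd
    rw [polar_add_right, hv d hd, hw d hd, add_zero]
  zero_mem' := fun d _ => by rw [polar_zero_right]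
  smul_mem' := by
    intro a v hv d hd
    rw [polar_smul_right, hv d hd, smul_zero]

omit [Finite F] in
theorem orth_compl {D : Submodule F V} (h : Nondeg (Q.comp D.subtype)) : IsCompl D (orth Q D) := by
  have h1 : orth Q D = LinearMap.BilinForm.orthogonal (polarBilin Q) D := by
    ext v
    exact ⟨fun h d hd => h d hd, fun h d hd => h d hd⟩
  rw [h1]
  refine LinearMap.BilinForm.isCompl_orthogonal_of_restrict_nondegenerate (fun x y hxy => ?_) ?_
  · rw [polarBilin_apply_apply] at hxy ⊢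
    rw [polar_comm]; exact hxy
  · refine ⟨fun x hx => h x fun y => hx y, fun x hx => h x fun y => ?_⟩
    rw [polar_comm]
    exact hx y

variable {G Ω : Type} [Group G] [Finite G] [MulAction G Ω] [Nonempty Ω]
  {N : Subgroup G} {ρ : ↥(E Q) →* G}

omit [Finite F] [FiniteDimensional F V] [Finite G] [Nonempty Ω] in
/-- an element whose lift is in `E Q` -/
theorem eq_of_lift (hG : Good Q) (hE : Env G Ω N) (hρ : Rep Q N ρ) {x : G} {M : Gam Q} (hl : Lf ρ x M)
    (t : ↥(E Q)) (ht : ∀ v, M.1 v = (t : V ≃ₗ[F] V) v) : x = ρ t := by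
  have h1 : M = tg Q t := Subtype.ext (Equiv.ext fun v => ht v)
  have h2 : Lf ρ (x * (ρ t)⁻¹) (M * (tg Q t)⁻¹) := hl.mul (Lf.tg t).inv
  rw [h1, mul_inv_cancel] at h2
  have h3 := (h2.eq_one_iff hG hE hρ).2 ⟨1, one_ne_zero, fun v => by rw [one_smul]; rfl⟩
  exact mul_inv_eq_one.1 h3

/-- **BOX E6** -/
theorem box_E6_of (hG : Good Q) (hE : Env G Ω N) (hρ : Rep Q N ρ) (hIH : IH (Nat.card (P Q)))
    {p : ℕ} [CharP F p] {ι : Type} [Finite ι] {x : ι → G} {M : ι → Gam Q} {r : ι → ℕ}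
    (hl : ∀ i, Lf ρ (x i) (M i)) (hx : PF x r) (hcov : Cov Ω x)
    (_h8 : 8 ≤ Module.finrank F V)
    (T : ι → V ≃ₗ[F] V) (hTO : ∀ i, T i ∈ O Q) (hTM : ∀ i v, (M i).1 v = T i v)
    (hTr : ∀ i, T i ^ r i = 1) (hTc : ∀ i j, T i * T j = T j * T i)
    (hD : ∃ D : Submodule F V, D ≠ ⊥ ∧ D ≠ ⊤ ∧ Nondeg (Q.comp D.subtype) ∧
      ∀ f : V →ₗ[F] V, (∀ (i : {i : ι // r i ≠ p}) v, f (T i v) = T i (f v)) → ∀ v ∈ D, f v ∈ D)
    (hp2 : p ≠ 2) (i₀ : ι) (hi₀ : r i₀ = p)
    (hLR : LR Q Ω ρ p)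
    (hB3 : ∀ (e f b : V) (h : Hyp Q e f) (heb : polar Q e b = 0), polar Q f b = 0 → Q b ≠ 0 →
      (∀ i, i ≠ i₀ → (∀ v ∈ Submodule.span F {e, f, b}, T i v = v) ∨
        ∀ v ∈ Submodule.span F {e, f, b}, T i v = -v) →
      (∀ v ∈ Submodule.span F {e, f, b}, T i₀ v = siegel Q e b h.left heb v) → False)
    (hUU : ∀ D : Submodule F V, Module.finrank F D = 4 → Nondeg (Q.comp D.subtype) →
      (∀ i, ∀ v ∈ D, T i v ∈ D) → ∀ w w' : V, w ∈ D → w' ∈ D → ∀ (hw : Q w = 0), Q w' = 0 →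
      ∀ (hww : polar Q w w' = 0), w ≠ 0 → (∀ a : F, w' ≠ a • w) →
      (∀ v ∈ D, T i₀ v = siegel Q w w' hw hww v) → ∀ L : Submodule F V, (∀ v ∈ L, Q v = 0) →
      Module.finrank F L = 2 → (∀ v ∈ L, ∀ d ∈ D, polar Q v d = 0) → (∀ i, i ≠ i₀ → ∀ v ∈ L, T i v ∈ L) → False) :
    False := by
  have hpp : p.Prime := CharP.char_is_prime F p
  have hri : ∀ i, r i = p → i = i₀ := fun i hi => hx.inj (hi.trans hi₀.symm)
  have hrn : ∀ i, i ≠ i₀ → r i ≠ p := fun i hi h => hi (hri i h)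
  have hcv : ∀ i j v, T i (T j v) = T j (T i v) := fun i j v => LinearEquiv.congr_fun (hTc i j) v
  have hPN : Nat.card (P Q) = Nat.card N := by
    have h1 : Nonempty (P Q ≃* N) := by
      rw [← hρ.range]
      exact ⟨(QuotientGroup.quotientMulEquivOfEq hρ.ker.symm).trans (QuotientGroup.quotientKerEquivRange ρ)⟩
    obtain ⟨e⟩ := h1
    exact Nat.card_congr e.toEquiv
  have hCV : CV Q Ω N ρ p x M T (fun _ => 1) r :=
    { good := hG, env := hE, rep := hρ, lr := hLR, ih := by rw [← hPN]; exact hIH, prime := hx.prime, pow := hx.pow,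
      ne := hx.ne, comm := hx.comm, cov := hcov, lf := hl, lin := hTM, sim := fun i v => by rw [one_mul]; exact hTO i v,
      commX := hTc }
  set u := T i₀ with hu
  have hup : u ^ p = 1 := by rw [hu, ← hi₀]; exact hTr i₀
  have hu1 : u ≠ 1 := by
    intro h
    refine hCV.not_scal i₀ 1 fun v => ?_
    rw [one_smul, ← hu, h]
    rfl
  obtain ⟨D, hDb, hDt, hDn, hDi⟩ := hD
  have hT1 : ∀ i, ∀ v ∈ D, T i v ∈ D := fun i => hDi (T i : V →ₗ[F] V) fun j v => hcv i j v
  have hT2 : ∀ i, ∀ v ∈ D, (T i).symm v ∈ D := fun i => hDi ((T i).symm : V →ₗ[F] V) fun j v => by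
    show (T i).symm (T j v) = T j ((T i).symm v)
    rw [LinearEquiv.symm_apply_eq, hcv, LinearEquiv.apply_symm_apply]
  have hpol : ∀ i v w, polar Q (T i v) (T i w) = polar Q v w := fun i v w => Cfsg.Agent.H205.RC.polar_iso (hTO i) v w
  have hc := orth_compl hDn
  have hT3 : ∀ i, ∀ v ∈ orth Q D, T i v ∈ orth Q D := by
    intro i v hv d hd
    rw [← (T i).apply_symm_apply d, hpol]
    exact hv _ (hT2 i d hd)
  have hDb' : orth Q D ≠ ⊥ := by
    intro h
    have h1 := hc.codisjoint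
    rw [h, codisjoint_bot] at h1
    exact hDt h1
  have key := box_uni_even hG.nondeg hp2 u (hTO i₀) hup hu1 (fun i : {i : ι // r i ≠ p} => T i) (fun i => r i)
    (fun i => hTO i) (fun i => hx.prime i) (fun i => i.2) (fun i => hTr i) (fun i j => hTc i j) (fun i => hTc i i₀)
    hc (fun a ha b hb => hb a ha) hDb hDb' (fun i => hT1 i) (fun i => hT3 i) (hT1 i₀) (hT3 i₀)
  rcases key with ⟨W, hW, hWt, hWX, hWu, v, hv, huv⟩ | ⟨e, f, b, h, heb, hfb, hb, hsc, hub⟩ |
    ⟨e, w, he, hw, hew, he0, hind, hus, hX⟩ |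
    ⟨e, w, e', w', he, hw, hew, he', hw', hew', he0, hind, he0', hind', heD, hwD, heD', hwD', h4, h4', hus, hX, hX'⟩
  · -- (a)
    have hns : ¬ ∃ a : F, ∀ v ∈ W, T i₀ v = a • v := by
      rintro ⟨a, ha⟩
      have h1 : ∀ k : ℕ, (u ^ k) v = a ^ k • v := by
        intro k
        induction k with
        | zero => rw [pow_zero, pow_zero, one_smul]; rfl
        | succ k ih =>
          rw [pow_succ, pow_succ]
          change (u ^ k) (u v) = _
          rw [hu, ha v hv, map_smul, ← hu, ih, smul_smul, mul_comm]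
      have hv0 : v ≠ 0 := by
        rintro rfl
        exact huv (map_zero u)
      have h2 : (a ^ p - 1) • v = 0 := by
        rw [sub_smul, ← h1, hup, one_smul]
        exact sub_self _
      have h3 : a ^ p = 1 := sub_eq_zero.1 ((smul_eq_zero.1 h2).resolve_right hv0)
      have : Fact p.Prime := ⟨hpp⟩
      have h4 : (a - 1) ^ p = 0 := by rw [sub_pow_char, one_pow, h3, sub_self]
      have h5 : a = 1 := sub_eq_zero.1 (pow_eq_zero_iff hpp.ne_zero |>.1 h4)
      apply huv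
      rw [hu, ha v hv, h5, one_smul]
    refine hCV.box_A W hW hWt (fun i v hv => ?_) ⟨i₀, fun a ha => hns ⟨a, ha⟩⟩ hx.inj.injOn (fun i hi hrp => ?_)
      (Or.inl ?_)
    · by_cases hip : r i = p
      · rw [hri i hip]; exact hWu v hv
      · exact hWX ⟨i, hip⟩ v hv
    · rw [hri i hrp] at hi
      exact hns hi
    · rintro ⟨h2, -⟩
      have h3 : ((Nat.card F : ℕ) : F) = 0 := by
        have : Fintype F := Fintype.ofFinite F
        rw [Nat.card_eq_fintype_card]
        exact FiniteField.cast_card_eq_zero F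
      rw [h2, CharP.cast_eq_zero_iff F p] at h3
      exact hp2 ((Nat.prime_dvd_prime_iff_eq hpp Nat.prime_two).1 h3)
  · -- (b)
    exact hB3 e f b h heb hfb hb (fun i hi => hsc ⟨i, hrn i hi⟩) hub
  · -- (c)
    refine hCV.no_lr {i | r i ≠ p} (fun i hi => hi) he hw hew he0 hind (fun i hi => hX ⟨i, hi⟩) fun ω => ?_
    obtain ⟨i, hi⟩ := hcov ω
    by_cases hip : r i = p
    · left
      rw [hri i hip] at hi
      rw [← eq_of_lift hG hE hρ (hl i₀) (AutOrth.SemiSim.sg Q e w he hew) fun v => by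
        rw [hTM, ← hu, hus]; rfl]
      exact hi
    · exact Or.inr ⟨i, hip, hi⟩
  · -- (uu)
    have hli : LinearIndependent F ![e', w'] := (LinearIndependent.pair_iff' he0').2 fun a h => hind' a h.symm
    refine hUU D h4 hDn hT1 e w heD hwD he hw hew he0 hind (fun v hv => ?_) (Submodule.span F {e', w'}) ?_ ?_ ?_
      fun i hi => hX' ⟨i, hrn i hi⟩
    · rw [hus, LinearEquiv.mul_apply, siegel_apply he' hew' v, polar_comm Q e' v, polar_comm Q w' v, heD' v hv,
        hwD' v hv, hw', zero_smul, zero_smul, mul_zero, zero_smul, add_zero, sub_zero, sub_zero]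
    · intro v hv
      obtain ⟨c, d, rfl⟩ := Submodule.mem_span_pair.1 hv
      rw [QuadraticMap.map_add Q, QuadraticMap.map_smul, QuadraticMap.map_smul, polar_smul_left, polar_smul_right, he',
        hw', hew']
      simp
    · have h5 := finrank_span_eq_card hli
      rw [Matrix.range_cons_cons_empty] at h5
      exact h5
    · intro v hv d hd
      obtain ⟨a, c, rfl⟩ := Submodule.mem_span_pair.1 hv
      rw [polar_comm, polar_add_right, polar_smul_right, polar_smul_right, heD' d hd, hwD' d hd]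
      simp

/-- **BOX E6** of `S3510_F_even_stubs` -/
theorem box_E6 (hG : Good Q) (hE : Env G Ω N) (hρ : Rep Q N ρ) (hIH : IH (Nat.card (P Q)))
    {p : ℕ} [CharP F p] {ι : Type} [Finite ι] {x : ι → G} {M : ι → Gam Q} {r : ι → ℕ}
    (hl : ∀ i, Lf ρ (x i) (M i)) (hx : PF x r) (hcov : Cov Ω x)
    (h8 : 8 ≤ Module.finrank F V)
    (T : ι → V ≃ₗ[F] V) (hTO : ∀ i, T i ∈ O Q) (hTM : ∀ i v, (M i).1 v = T i v)
    (hTr : ∀ i, T i ^ r i = 1) (hTc : ∀ i j, T i * T j = T j * T i)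
    (hD : ∃ D : Submodule F V, D ≠ ⊥ ∧ D ≠ ⊤ ∧ Nondeg (Q.comp D.subtype) ∧
      ∀ f : V →ₗ[F] V, (∀ (i : {i : ι // r i ≠ p}) v, f (T i v) = T i (f v)) → ∀ v ∈ D, f v ∈ D)
    (hp2 : p ≠ 2) (i₀ : ι) (hi₀ : r i₀ = p) : False := by
  have hLR : LR Q Ω ρ p := by
    intro _ _ _ _ _ hl hr hrp hy hy1 hc _ _ hu hw huw hu0 hind hL hcov
    exact H297.RC.box_LR hG hE hρ hl hr hrp hy hy1 hc hu hw huw hu0 hind hL hcov
  have hPN : Nat.card (P Q) = Nat.card N := by
    have h1 : Nonempty (P Q ≃* N) := by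
      rw [← hρ.range]
      exact ⟨(QuotientGroup.quotientMulEquivOfEq hρ.ker.symm).trans (QuotientGroup.quotientKerEquivRange ρ)⟩
    obtain ⟨e⟩ := h1
    exact Nat.card_congr e.toEquiv
  have hCV : CV Q Ω N ρ p x M T (fun _ => 1) r :=
    { good := hG, env := hE, rep := hρ, lr := hLR, ih := by rw [← hPN]; exact hIH, prime := hx.prime, pow := hx.pow,
      ne := hx.ne, comm := hx.comm, cov := hcov, lf := hl, lin := hTM, sim := fun i v => by rw [one_mul]; exact hTO i v,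
      commX := hTc }
  refine box_E6_of hG hE hρ hIH hl hx hcov h8 T hTO hTM hTr hTc hD hp2 i₀ hi₀ hLR ?_ ?_
  · intro e f b h heb hfb hb hsc hu
    refine Cfsg.Agent.H93.RC.box_B3 hCV hp2 hx.inj (by omega) i₀ hi₀ (hTO i₀) (by rw [← hi₀]; exact hTr i₀) h heb hfb hb
      (fun i hi => ?_) hu
    rcases hsc i hi with h1 | h1
    · exact ⟨1, fun v hv => by rw [one_smul]; exact h1 v hv⟩
    · exact ⟨-1, fun v hv => by rw [neg_smul, one_smul]; exact h1 v hv⟩
  · intro D hD4 hDn hDi w w' hwD hwD' hw hw' hww hw0 hind hu L hL hL2 hLD hLi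
    exact Cfsg.Agent.H393.UU.box_UU_of hG hE hρ hLR hl hx hcov T hTO hTM hTr hTc i₀ hi₀ D hD4 hDn hDi w w' hwD hwD' hw hw'
      hww hw0 hind hu L hL hL2 hLD hLi

end Cfsg.Agent.H406.RC
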